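import Mathlib
import Cfsg.Agent.Lib.SolvableNormalP

/-!
# Two overlapping 5-cycles do not generate a solvable group (helper495)

`ns_cycle`: `s` a 5-cycle, `x` a permutation, the support `D` of `s` and `x D` are different and meet:
`⟨x, s⟩` is not solvable.
-/

set_option autoImplicit false
set_option linter.unusedSectionVars false

namespace Cfsg.Agent.H495.AS

open Equiv Subgroup

variable {α : Type*} [Fintype α] [DecidableEq α]

/-- the same orbit of `N` -/
def R (N : Subgroup (Perm α)) (a b : α) : Prop := ∃ n ∈ N, n a = b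

theorem R.refl (N : Subgroup (Perm α)) (a : α) : R N a a := ⟨1, one_mem _, rfl⟩

theorem R.symm {N : Subgroup (Perm α)} {a b : α} (h : R N a b) : R N b a := by
  obtain ⟨n, hn, rfl⟩ := h
  exact ⟨n⁻¹, inv_mem hn, by simp⟩

theorem R.trans {N : Subgroup (Perm α)} {a b c : α} (h : R N a b) (h' : R N b c) : R N a c := by
  obtain ⟨n, hn, rfl⟩ := h
  obtain ⟨m, hm, rfl⟩ := h'
  exact ⟨m * n, mul_mem hm hn, rfl⟩

theorem R.map {N : Subgroup (Perm α)} {g : Perm α} (hg : ∀ n ∈ N, g * n * g⁻¹ ∈ N) {a b : α} (h : R N a b) :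
    R N (g a) (g b) := by
  obtain ⟨n, hn, rfl⟩ := h
  exact ⟨g * n * g⁻¹, hg n hn, by simp⟩

theorem norm_pow {N : Subgroup (Perm α)} {g : Perm α} (hg : ∀ n ∈ N, g * n * g⁻¹ ∈ N) (i : ℕ) :
    ∀ n ∈ N, g ^ i * n * (g ^ i)⁻¹ ∈ N := by
  induction i with
  | zero => intro n hn; simpa using hn
  | succ i ih =>
    intro n hn
    have h1 := hg _ (ih n hn)
    have e : g * (g ^ i * n * (g ^ i)⁻¹) * g⁻¹ = g ^ (i + 1) * n * (g ^ (i + 1))⁻¹ := by
      rw [pow_succ' g i]; group
    rw [← e]; exact h1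

/-- a 5-cycle normalising `N` preserves the `N`-orbits (if the orbits are not trivial) -/
theorem R_cycle {N : Subgroup (Perm α)} {u : Perm α} (hu : u.IsCycle) (hu5 : u.support.card = 5)
    (hN : ∀ n ∈ N, u * n * u⁻¹ ∈ N) (hb : ∀ b ∈ u.support, ∃ b', b' ≠ b ∧ R N b b') (b : α) : R N b (u b) := by
  have ho : orderOf u = 5 := by rw [hu.orderOf, hu5]
  have hu5' : u ^ 5 = 1 := by rw [← ho, pow_orderOf_eq_one]
  by_cases hub : u b = b
  · rw [hub]; exact R.refl N b
  by_contra hcon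
  obtain ⟨b', hb', hR⟩ := hb b (Perm.mem_support.2 hub)
  have hmv : u b' ≠ b' := by
    intro h
    apply hcon
    have h1 := R.map hN hR
    rw [h] at h1
    exact hR.trans h1.symm
  obtain ⟨j, hj⟩ := hu.exists_pow_eq hub hmv
  have key : ∀ k : ℕ, R N b ((u ^ (j * k)) b) := by
    intro k
    induction k with
    | zero => simpa using R.refl N b
    | succ k ih =>
      refine ih.trans ?_
      have h1 := R.map (norm_pow hN (j * k)) hR
      rw [← hj, ← Perm.mul_apply, ← pow_add] at h1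
      exact h1
  have hj5 : ¬ 5 ∣ j := by
    rintro ⟨m, rfl⟩
    apply hb'
    rw [← hj, pow_mul, hu5', one_pow, Perm.one_apply]
  have hcop : Nat.Coprime j 5 := (Nat.Coprime.symm ((Nat.Prime.coprime_iff_not_dvd (by norm_num)).2 hj5))
  obtain ⟨k, hk⟩ : ∃ k : ℕ, j * k ≡ 1 [MOD 5] := by
    have h2 := Nat.exists_mul_mod_eq_one_of_coprime hcop (by norm_num)
    obtain ⟨k, -, hk⟩ := h2
    exact ⟨k, hk⟩
  have h3 : u ^ (j * k) = u := by
    have h4 : u ^ (j * k) = u ^ 1 := by
      rw [pow_eq_pow_iff_modEq, ho]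
      exact hk
    rw [h4, pow_one]
  exact hcon (h3 ▸ key k)


theorem core {s t : Perm α} (hs : s.IsCycle) (ht : t.IsCycle) (hs5 : s.support.card = 5) (ht5 : t.support.card = 5)
    {c ω : α} (hcs : c ∈ s.support) (hct : c ∈ t.support) (hωt : ω ∈ t.support) (hωs : ω ∉ s.support)
    (hsol : Group.IsSolvable (closure ({s, t} : Set (Perm α)))) : False := by
  classical
  set M := closure ({s, t} : Set (Perm α)) with hM
  have hsM : s ∈ M := subset_closure (by simp)
  have htM : t ∈ M := subset_closure (by simp)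
  have hnt : Nontrivial M := by
    refine ⟨⟨s, hsM⟩, 1, fun h => ?_⟩
    have h1 : s = 1 := congrArg Subtype.val h
    rw [Perm.mem_support, h1] at hcs
    exact hcs rfl
  obtain ⟨q, N0, hq, hN0n, hN0p, hN0c, hN01⟩ := Cfsg.Agent.Lib.SolvableNormalP.exists_normal_pSubgroup M
  set N : Subgroup (Perm α) := N0.map M.subtype with hN
  have hNM : N ≤ M := by
    rintro _ ⟨n, -, rfl⟩
    exact n.2
  have hnorm : ∀ g ∈ M, ∀ n ∈ N, g * n * g⁻¹ ∈ N := by
    rintro g hg _ ⟨n, hn, rfl⟩
    exact ⟨⟨g, hg⟩ * n * ⟨g, hg⟩⁻¹, hN0n.conj_mem n hn _, rfl⟩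
  have hcomm : ∀ a ∈ N, ∀ b ∈ N, a * b = b * a := by
    rintro _ ⟨a, ha, rfl⟩ _ ⟨b, hb, rfl⟩
    exact congrArg (fun z : N0 => ((z : M) : Perm α)) (hN0c.is_comm.comm ⟨a, ha⟩ ⟨b, hb⟩)
  have hNp : IsPGroup q N := hN0p.map _
  have hN1 : N ≠ ⊥ := by
    rw [hN, Ne, Subgroup.map_eq_bot_iff_of_injective _ M.subtype_injective]
    exact hN01
  set U := s.support ∪ t.support with hU
  -- outside `U`
  have hout : ∀ g ∈ M, ∀ b, b ∉ U → g b = b := by
    intro g hg
    induction hg using closure_induction with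
    | mem g hg =>
      intro b hb
      simp only [Set.mem_insert_iff, Set.mem_singleton_iff] at hg
      rw [hU, Finset.mem_union, not_or, Perm.mem_support, Perm.mem_support, not_not, not_not] at hb
      rcases hg with rfl | rfl
      · exact hb.1
      · exact hb.2
    | one => intro b _; rfl
    | mul g h _ _ ihg ihh => intro b hb; rw [Perm.mul_apply, ihh b hb, ihg b hb]
    | inv g _ ih =>
      intro b hb
      rw [Perm.inv_eq_iff_eq, ih b hb]
  -- transitivity of `M`
  have htr : ∀ b ∈ U, ∃ g ∈ M, g c = b := by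
    intro b hb
    rw [hU, Finset.mem_union, Perm.mem_support, Perm.mem_support] at hb
    rcases hb with hb | hb
    · obtain ⟨i, hi⟩ := hs.exists_pow_eq (Perm.mem_support.1 hcs) hb
      exact ⟨s ^ i, pow_mem hsM i, hi⟩
    · obtain ⟨i, hi⟩ := ht.exists_pow_eq (Perm.mem_support.1 hct) hb
      exact ⟨t ^ i, pow_mem htM i, hi⟩
  -- the orbits of `N` are not trivial
  have hbig : ∀ b ∈ U, ∃ b', b' ≠ b ∧ R N b b' := by
    obtain ⟨n, hn, hn1⟩ := (Subgroup.ne_bot_iff_exists_ne_one.1 hN1 : ∃ a : N, a ≠ 1) |>.elim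
      (fun a ha => (⟨a.1, a.2, fun h => ha (Subtype.ext h)⟩ : ∃ n ∈ N, n ≠ 1))
    obtain ⟨e, he⟩ : ∃ e, n e ≠ e := by
      by_contra h
      push Not at h
      exact hn1 (Perm.ext h)
    have heU : e ∈ U := by
      by_contra h
      exact he (hout n (hNM hn) e h)
    obtain ⟨g1, hg1, hg1e⟩ := htr e heU
    intro b hb
    obtain ⟨g2, hg2, hg2b⟩ := htr b hb
    have h1 : (g2 * g1⁻¹) e = b := by
      rw [Perm.mul_apply, ← hg1e, show g1⁻¹ (g1 c) = c from g1.symm_apply_apply c, hg2b]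
    refine ⟨(g2 * g1⁻¹) (n e), ?_, ?_⟩
    · rw [← h1]
      exact fun h => he ((g2 * g1⁻¹).injective h)
    · have h2 := R.map (hnorm _ (mul_mem hg2 (inv_mem hg1))) ⟨n, hn, rfl⟩ (a := e)
      rw [h1] at h2
      exact h2
  have hRs : ∀ b, R N b (s b) := R_cycle hs hs5 (hnorm s hsM) fun b hb => hbig b (Finset.mem_union_left _ hb)
  have hRt : ∀ b, R N b (t b) := R_cycle ht ht5 (hnorm t htM) fun b hb => hbig b (Finset.mem_union_right _ hb)
  have hRpow : ∀ u : Perm α, (∀ b, R N b (u b)) → ∀ (i : ℕ) b, R N b ((u ^ i) b) := by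
    intro u hu i b
    induction i with
    | zero => exact R.refl N b
    | succ i ih =>
      rw [pow_succ', Perm.mul_apply]
      exact ih.trans (hu _)
  have hRc : ∀ b ∈ U, R N c b := by
    intro b hb
    rw [hU, Finset.mem_union, Perm.mem_support, Perm.mem_support] at hb
    rcases hb with hb | hb
    · obtain ⟨i, hi⟩ := hs.exists_pow_eq (Perm.mem_support.1 hcs) hb
      rw [← hi]
      exact hRpow s hRs i c
    · obtain ⟨i, hi⟩ := ht.exists_pow_eq (Perm.mem_support.1 hct) hb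
      rw [← hi]
      exact hRpow t hRt i c
  have hcU : c ∈ U := Finset.mem_union_left _ hcs
  have hωU : ω ∈ U := Finset.mem_union_right _ hωt
  -- `N` is regular on `U`
  have hreg : ∀ n ∈ N, ∀ b ∈ U, n b = b → n = 1 := by
    intro n hn b hb hnb
    ext b'
    rw [Perm.one_apply]
    by_cases hb' : b' ∈ U
    · obtain ⟨m, hm, rfl⟩ := (hRc b hb).symm.trans (hRc b' hb')
      rw [← Perm.mul_apply, hcomm n hn m hm, Perm.mul_apply, hnb]
    · exact hout n (hNM hn) b' hb'
  have hNU : ∀ n ∈ N, ∀ b ∈ U, n b ∈ U := by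
    intro n hn b hb
    by_contra h
    have h1 := hout n (hNM hn) _ h
    have h2 := n.injective h1
    rw [h2] at h
    exact h hb
  have hcard : ∀ (C : Subgroup (Perm α)) (W : Finset α) (b : α), C ≤ N → b ∈ U → (∀ n ∈ C, n b ∈ W) →
      (∀ a ∈ W, a ∈ U ∧ ∀ n ∈ N, n b = a → n ∈ C) → Nat.card C = W.card := by
    intro C W b hCN hb h1 h2
    rw [← Fintype.card_coe W, ← Nat.card_eq_fintype_card]
    refine Nat.card_congr (Equiv.ofBijective (fun n : C => (⟨n.1 b, h1 _ n.2⟩ : W)) ⟨?_, ?_⟩)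
    · intro n m hnm
      have h3 : n.1 b = m.1 b := congrArg Subtype.val hnm
      have h4 := hreg (m.1⁻¹ * n.1) (mul_mem (inv_mem (hCN m.2)) (hCN n.2)) b hb (by
        rw [Perm.mul_apply, h3]; exact m.1.symm_apply_apply b)
      exact Subtype.ext (inv_mul_eq_one.1 h4).symm
    · rintro ⟨a, ha⟩
      obtain ⟨haU, h3⟩ := h2 a ha
      obtain ⟨n, hn, hna⟩ := (hRc b hb).symm.trans (hRc a haU)
      exact ⟨⟨n, h3 n hn hna⟩, Subtype.ext hna⟩
  have hcardN : Nat.card N = U.card :=
    hcard N U c le_rfl hcU (fun n hn => hNU n hn c hcU) fun a ha => ⟨ha, fun n hn _ => hn⟩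
  have hsω : s ω = ω := by rwa [Perm.mem_support, not_not] at hωs
  have hcardC : Nat.card ↥(N ⊓ centralizer {s} : Subgroup (Perm α)) = (U \ s.support).card := by
    refine hcard _ _ ω inf_le_left hωU ?_ ?_
    · rintro n ⟨hn, hns⟩
      have h1 : s * n = n * s := mem_centralizer_iff.1 hns s rfl
      rw [Finset.mem_sdiff, Perm.mem_support, not_not]
      refine ⟨hNU n hn ω hωU, ?_⟩
      rw [← Perm.mul_apply, h1, Perm.mul_apply, hsω]
    · intro a ha
      rw [Finset.mem_sdiff, Perm.mem_support, not_not] at ha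
      refine ⟨ha.1, fun n hn hna => Subgroup.mem_inf.2 ⟨hn, ?_⟩⟩
      have h1 : (n⁻¹ * (s * n * s⁻¹)) ω = ω := by
        have h2 : s⁻¹ ω = ω := by rw [Perm.inv_eq_iff_eq, hsω]
        rw [Perm.mul_apply, Perm.mul_apply, Perm.mul_apply, h2, hna, ha.2, ← hna]
        exact n.symm_apply_apply ω
      have h2 := hreg _ (mul_mem (inv_mem hn) (hnorm s hsM n hn)) ω hωU h1
      rw [inv_mul_eq_one] at h2
      rw [Subgroup.mem_centralizer_iff]
      intro y hy
      rw [Set.mem_singleton_iff.1 hy]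
      exact (eq_mul_inv_iff_mul_eq.1 h2).symm
  have hdvd : Nat.card ↥(N ⊓ centralizer {s} : Subgroup (Perm α)) ∣ Nat.card N := Subgroup.card_dvd_of_le inf_le_left
  have hUc : U.card + (s.support ∩ t.support).card = 10 := by
    rw [hU, Finset.card_union_add_card_inter, hs5, ht5]
  have hint : 0 < (s.support ∩ t.support).card := Finset.card_pos.2 ⟨c, Finset.mem_inter.2 ⟨hcs, hct⟩⟩
  have hU6 : 5 < U.card := by
    rw [← hs5]
    exact Finset.card_lt_card (Finset.ssubset_iff_of_subset Finset.subset_union_left |>.2 ⟨ω, hωU, hωs⟩)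
  have hdiff : (U \ s.support).card = U.card - 5 := by
    rw [Finset.card_sdiff_of_subset Finset.subset_union_left, hs5]
  rw [hcardC, hcardN, hdiff] at hdvd
  have : Fact q.Prime := ⟨hq⟩
  obtain ⟨k, hk⟩ := IsPGroup.iff_card.1 hNp
  rw [hcardN] at hk
  have hcase : U.card = 6 ∨ U.card = 7 ∨ U.card = 8 ∨ U.card = 9 := by omega
  rcases hcase with h | h | h | h
  · rw [h] at hk
    have h2 : q = 2 := (Nat.prime_dvd_prime_iff_eq Nat.prime_two hq).1
      (Nat.prime_two.dvd_of_dvd_pow (hk ▸ (by norm_num : 2 ∣ 6))) |>.symm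
    have h3 : q = 3 := (Nat.prime_dvd_prime_iff_eq Nat.prime_three hq).1
      (Nat.prime_three.dvd_of_dvd_pow (hk ▸ (by norm_num : 3 ∣ 6))) |>.symm
    omega
  · rw [h] at hdvd; omega
  · rw [h] at hdvd; omega
  · rw [h] at hdvd; omega

/-- **two overlapping 5-cycles**: `s` a 5-cycle with support `D`, `x` a permutation with `x D ≠ D`, `x D ∩ D ≠ ∅` -/
theorem ns_cycle {s x : Perm α} (hs : s.IsCycle) (hs5 : s.support.card = 5) {a l : α} (ha : a ∈ s.support)
    (hxa : x a ∉ s.support) (hl : l ∈ s.support) (hxl : x l ∈ s.support) :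
    ¬ Group.IsSolvable (closure ({x, s} : Set (Perm α))) := by
  intro hsol
  have hsup : ∀ b, b ∈ s.support → x b ∈ (x * s * x⁻¹).support := by
    intro b hb
    rw [Perm.mem_support] at hb ⊢
    rw [Perm.mul_apply, Perm.mul_apply, show x⁻¹ (x b) = b from x.symm_apply_apply b]
    exact fun h => hb (x.injective h)
  refine core (s := s) (t := x * s * x⁻¹) (c := x l) (ω := x a) hs hs.conj hs5 ?_ hxl (hsup l hl) (hsup a ha) hxa ?_
  · rw [Perm.card_support_conj, hs5]
  · have hle : closure ({s, x * s * x⁻¹} : Set (Perm α)) ≤ closure ({x, s} : Set (Perm α)) := by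
      rw [closure_le]
      have hx : x ∈ closure ({x, s} : Set (Perm α)) := subset_closure (by simp)
      have hs' : s ∈ closure ({x, s} : Set (Perm α)) := subset_closure (by simp)
      intro y hy
      simp only [Set.mem_insert_iff, Set.mem_singleton_iff] at hy
      rcases hy with rfl | rfl
      · exact hs'
      · exact mul_mem (mul_mem hx hs') (inv_mem hx)
    exact Group.isSolvable_of_isSolvable_injective (Subgroup.inclusion_injective hle)

end Cfsg.Agent.H495.AS
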