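import Mathlib
import Cfsg.Agent.H465.AltPE
import Cfsg.Agent.H965.ASRed
import Cfsg.Agent.H495.AS.Cyc

/-!
# `AS2` for the alternating groups of degree at least 7 (helper495)
-/

set_option autoImplicit false
set_option linter.unusedSectionVars false

namespace Cfsg.Agent.H495.AS

open Equiv Subgroup Cfsg.Agent.H965.AS

/-- a 5-set which is moved, but not away from itself, by both permutations -/
theorem exists_set {n : ℕ} (hn : 7 ≤ n) {x y : Perm (Fin n)} (hx : x ≠ 1) (hy : y ≠ 1) :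
    ∃ D : Finset (Fin n), D.card = 5 ∧ (∃ a ∈ D, x a ∉ D) ∧ (∃ l ∈ D, x l ∈ D) ∧ (∃ a ∈ D, y a ∉ D) ∧
      ∃ l ∈ D, y l ∈ D := by
  classical
  have hcardn : (Finset.univ : Finset (Fin n)).card = n := by simp
  have fresh : ∀ T : Finset (Fin n), T.card ≤ 4 → ∃ l, l ∉ T := by
    intro T hT
    by_contra h
    push Not at h
    have h1 : T = Finset.univ := Finset.eq_univ_iff_forall.2 h
    rw [h1, hcardn] at hT
    omega
  have ext : ∀ (D0 : Finset (Fin n)) (b c : Fin n), D0.card ≤ 5 → b ∉ D0 → c ∉ D0 →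
      ∃ D : Finset (Fin n), D0 ⊆ D ∧ D.card = 5 ∧ b ∉ D ∧ c ∉ D := by
    intro D0 b c h1 h2 h3
    have h4 : D0 ⊆ Finset.univ \ {b, c} := by
      intro z hz
      rw [Finset.mem_sdiff, Finset.mem_insert, Finset.mem_singleton, not_or]
      exact ⟨Finset.mem_univ _, fun h => h2 (h ▸ hz), fun h => h3 (h ▸ hz)⟩
    have h5 : 5 ≤ (Finset.univ \ {b, c} : Finset (Fin n)).card := by
      have h6 : ({b, c} : Finset (Fin n)).card ≤ 2 := Finset.card_le_two
      have h7 := Finset.le_card_sdiff ({b, c} : Finset (Fin n)) Finset.univ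
      rw [hcardn] at h7
      omega
    obtain ⟨D, h8, h9, h10⟩ := Finset.exists_subsuperset_card_eq h4 h1 h5
    refine ⟨D, h8, h10, fun h => ?_, fun h => ?_⟩
    · have := h9 h
      rw [Finset.mem_sdiff] at this
      exact this.2 (by simp)
    · have := h9 h
      rw [Finset.mem_sdiff] at this
      exact this.2 (by simp)
  by_cases hA : ∃ a, x a ≠ a ∧ y a ≠ a
  · obtain ⟨a, hxa, hya⟩ := hA
    obtain ⟨l, hl⟩ := fresh {x a, y a, a, x⁻¹ (y a)} Finset.card_le_four
    obtain ⟨m, hm⟩ := fresh {x a, y a, a, y⁻¹ (x a)} Finset.card_le_four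
    simp only [Finset.mem_insert, Finset.mem_singleton, not_or] at hl hm
    have hxl1 : x l ≠ x a := fun h => hl.2.2.1 (x.injective h)
    have hxl2 : x l ≠ y a := fun h => hl.2.2.2 (by rw [← h]; exact (x.symm_apply_apply l).symm)
    have hym1 : y m ≠ y a := fun h => hm.2.2.1 (y.injective h)
    have hym2 : y m ≠ x a := fun h => hm.2.2.2 (by rw [← h]; exact (y.symm_apply_apply m).symm)
    obtain ⟨D, h1, h2, h3, h4⟩ := ext {a, l, x l, m, y m} (x a) (y a) Finset.card_le_five (by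
      simp only [Finset.mem_insert, Finset.mem_singleton, not_or]
      exact ⟨hxa, Ne.symm hl.1, Ne.symm hxl1, Ne.symm hm.1, Ne.symm hym2⟩) (by
      simp only [Finset.mem_insert, Finset.mem_singleton, not_or]
      exact ⟨hya, Ne.symm hl.2.1, Ne.symm hxl2, Ne.symm hm.2.1, Ne.symm hym1⟩)
    exact ⟨D, h2, ⟨a, h1 (by simp), h3⟩, ⟨l, h1 (by simp), h1 (by simp)⟩, ⟨a, h1 (by simp), h4⟩,
      ⟨m, h1 (by simp), h1 (by simp)⟩⟩
  · push Not at hA
    obtain ⟨i, hi⟩ : ∃ i, x i ≠ i := by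
      by_contra h
      push Not at h
      exact hx (Perm.ext h)
    obtain ⟨j, hj⟩ : ∃ j, y j ≠ j := by
      by_contra h
      push Not at h
      exact hy (Perm.ext h)
    have hyi : y i = i := hA i hi
    have hxj : x j = j := by
      by_contra h
      exact hj (hA j h)
    have h1 : x i ≠ j := by
      intro h
      rw [← hxj] at h
      have := x.injective h
      exact hi (by rw [this, hxj])
    have h2 : y j ≠ i := by
      intro h
      rw [← hyi] at h
      have := y.injective h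
      exact hj (by rw [this, hyi])
    obtain ⟨D, h3, h4, h5, h6⟩ := ext {i, j} (x i) (y j) ((Finset.card_le_two).trans (by norm_num)) (by
      simp only [Finset.mem_insert, Finset.mem_singleton, not_or]
      exact ⟨hi, h1⟩) (by
      simp only [Finset.mem_insert, Finset.mem_singleton, not_or]
      exact ⟨h2, hj⟩)
    exact ⟨D, h4, ⟨i, h3 (by simp), h5⟩, ⟨j, h3 (by simp), by rw [hxj]; exact h3 (by simp)⟩,
      ⟨j, h3 (by simp), h6⟩, ⟨i, h3 (by simp), by rw [hyi]; exact h3 (by simp)⟩⟩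

theorem exists_cyc {n : ℕ} {D : Finset (Fin n)} (hD : D.card = 5) :
    ∃ s ∈ alternatingGroup (Fin n), s.IsCycle ∧ s.support = D := by
  obtain ⟨s, hs, hsD⟩ := D.exists_cycleOn
  have hnt : (D : Set (Fin n)).Nontrivial := by
    have : 1 < D.card := by omega
    exact Finset.one_lt_card_iff_nontrivial.1 this
  have hsup : s.support = D := by
    refine Finset.Subset.antisymm hsD fun a ha => ?_
    rw [Perm.mem_support]
    exact hs.apply_ne hnt ha
  have hcyc : s.IsCycle := Perm.isCycle_iff_exists_isCycleOn.2 ⟨D, hnt, hs, fun x hx => by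
    have : x ∈ s.support := Perm.mem_support.2 hx
    rw [hsup] at this
    exact this⟩
  refine ⟨s, ?_, hcyc, hsup⟩
  rw [Perm.mem_alternatingGroup, hcyc.sign, hsup, hD]
  decide

theorem as2_alt {n : ℕ} (hn : 7 ≤ n) : AS2 (alternatingGroup (Fin n)) := by
  obtain ⟨ψ, hψ, hspec⟩ := Cfsg.Agent.Omega.TwoF.AltRk.exists_psi (n := n) hn
  have hconj : ∀ y : alternatingGroup (Fin n), ψ (MulAut.conj y) = (y : Perm (Fin n)) := by
    intro y
    have h1 : (y : Perm (Fin n))⁻¹ * ψ (MulAut.conj y) = 1 := by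
      refine Cfsg.Agent.H465.AltPE.eq_one_of_comm (by omega) fun z hz => ?_
      have h2 := hspec (MulAut.conj y) ⟨z, hz⟩
      have h3 : ((MulAut.conj y ⟨z, hz⟩ : alternatingGroup (Fin n)) : Perm (Fin n)) = y * z * (y : Perm (Fin n))⁻¹ :=
        rfl
      rw [h3] at h2
      set w := ψ (MulAut.conj y)
      change (y : Perm (Fin n)) * z * (y : Perm (Fin n))⁻¹ = w * z * w⁻¹ at h2
      have h4 : w * z = (y : Perm (Fin n)) * z * (y : Perm (Fin n))⁻¹ * w := by
        rw [h2]; group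
      rw [mul_assoc, h4]; group
    exact (inv_mul_eq_one.1 h1).symm
  intro a b ha hb
  have ha' : ψ a ≠ 1 := fun h => ha (hψ (by rw [h, map_one]))
  have hb' : ψ b ≠ 1 := fun h => hb (hψ (by rw [h, map_one]))
  obtain ⟨D, hD, ⟨a1, ha1, ha2⟩, ⟨l1, hl1, hl2⟩, ⟨a2, ha3, ha4⟩, ⟨l2, hl3, hl4⟩⟩ := exists_set hn ha' hb'
  obtain ⟨s, hsA, hs, hsD⟩ := exists_cyc hD
  have key : ∀ w : MulAut (alternatingGroup (Fin n)), ¬ Group.IsSolvable (closure ({ψ w, s} : Set (Perm (Fin n)))) →
      ¬ Group.IsSolvable (closure ({w, MulAut.conj (⟨s, hsA⟩ : alternatingGroup (Fin n))} :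
        Set (MulAut (alternatingGroup (Fin n))))) := by
    intro w hns hsol
    apply hns
    have h1 : (closure ({w, MulAut.conj ⟨s, hsA⟩} : Set (MulAut (alternatingGroup (Fin n))))).map ψ =
        closure ({ψ w, s} : Set (Perm (Fin n))) := by
      rw [MonoidHom.map_closure, Set.image_pair, hconj]
    rw [← h1]
    exact Cfsg.Agent.SignalizersComponents.ComponentExists.isSolvable_map hsol _
  subst hsD
  exact ⟨⟨s, hsA⟩, key a (ns_cycle hs hD ha1 ha2 hl1 hl2), key b (ns_cycle hs hD ha3 ha4 hl3 hl4)⟩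

/-- **the row `A_n`, `n ≥ 7`** -/
theorem row_ge {n : ℕ} (hn : 7 ≤ n) {K : Type*} [Group K] (e : K ≃* alternatingGroup (Fin n)) : AS2 K :=
  (as2_alt hn).congr e.symm

end Cfsg.Agent.H495.AS
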