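import Mathlib
import Cfsg.Agent.H495.AS.Alt
import Cfsg.Agent.H965.ASCyc
import Cfsg.Agent.H548.RowAlt

/-!
# `AS2` for `A_5` and `A_6`, and the row of the alternating groups (helper495)
-/

set_option autoImplicit false
set_option linter.unusedSectionVars false

namespace Cfsg.Agent.H495.AS

open Equiv Subgroup Cfsg.Agent.H965.AS Cfsg.Agent.H965.SU Cfsg.Agent.H465.SU

theorem exists_five {n : ℕ} (hn : 5 ≤ n) : ∃ s ∈ alternatingGroup (Fin n), s.IsCycle ∧ s.support.card = 5 := by
  obtain ⟨D, -, hD⟩ := Finset.exists_subset_card_eq (s := (Finset.univ : Finset (Fin n))) (n := 5)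
    (by rw [Finset.card_univ, Fintype.card_fin]; exact hn)
  obtain ⟨s, hs, hc, hsD⟩ := exists_cyc hD
  exact ⟨s, hs, hc, by rw [hsD, hD]⟩

theorem card_cent {n : ℕ} (hn : n = 5 ∨ n = 6) {s : Perm (Fin n)} (hs : s.IsCycle) (h5 : s.support.card = 5)
    (hsA : s ∈ alternatingGroup (Fin n)) :
    Nat.card ↥(centralizer ({(⟨s, hsA⟩ : alternatingGroup (Fin n))} : Set (alternatingGroup (Fin n)))) = 5 := by
  classical
  have h1 : Nat.card ↥(centralizer ({s} : Set (Perm (Fin n)))) = 5 := by
    rw [Perm.nat_card_centralizer, hs.cycleType, h5]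
    rcases hn with rfl | rfl <;> simp
  have ho : orderOf (⟨s, hsA⟩ : alternatingGroup (Fin n)) = 5 := by
    rw [Subgroup.orderOf_mk, hs.orderOf, h5]
  apply le_antisymm
  · rw [← h1]
    refine Nat.card_le_card_of_injective (fun g => (⟨g.1.1, ?_⟩ : centralizer ({s} : Set (Perm (Fin n))))) ?_
    · rw [mem_centralizer_singleton_iff]
      have h2 := mem_centralizer_singleton_iff.1 g.2
      exact congrArg Subtype.val h2
    · intro a b hab
      exact Subtype.ext (Subtype.ext (congrArg (fun z => z.1) hab))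
  · have h2 : zpowers (⟨s, hsA⟩ : alternatingGroup (Fin n)) ≤
        centralizer ({(⟨s, hsA⟩ : alternatingGroup (Fin n))} : Set (alternatingGroup (Fin n))) := by
      rw [zpowers_le, mem_centralizer_singleton_iff]
    have h3 := Subgroup.card_le_of_le h2
    rw [Nat.card_zpowers, ho] at h3
    exact h3

theorem not_solvable_alt {n : ℕ} (hn : 5 ≤ n) : ¬ Group.IsSolvable (alternatingGroup (Fin n)) := by
  intro h
  have h1 : Group.IsSolvable (Perm (Fin n)) := by
    refine Group.isSolvable_of_ker_le_range (alternatingGroup (Fin n)).subtype (Perm.sign : Perm (Fin n) →* ℤˣ) ?_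
    rw [Subgroup.range_subtype]
    exact le_of_eq rfl
  exact Perm.not_isSolvable (Fin n) (by rw [Cardinal.mk_fin]; exact_mod_cast hn) h1

theorem as2_small {n : ℕ} (hn : n = 5 ∨ n = 6) : AS2 (alternatingGroup (Fin n)) := by
  have h5 : 5 ≤ n := by omega
  have hsimp : IsSimpleGroup (alternatingGroup (Fin n)) := alternatingGroup.isSimpleGroup (by
    rw [Nat.card_eq_fintype_card, Fintype.card_fin]; exact h5)
  have hna : ¬ IsMulCommutative (alternatingGroup (Fin n)) := by
    intro h
    have h1 := (IsSimpleGroup.comm_iff_isSolvable (G := alternatingGroup (Fin n))).1 h.is_comm.comm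
    exact not_solvable_alt h5 h1
  obtain ⟨s, hsA, hs, hs5⟩ := exists_five h5
  have hp5 : Nat.Prime 5 := by norm_num
  have : Fact (Nat.Prime 5) := ⟨hp5⟩
  have ho : orderOf (⟨s, hsA⟩ : alternatingGroup (Fin n)) = 5 := by
    rw [Subgroup.orderOf_mk, hs.orderOf, hs5]
  have hcard : 2 * Nat.card (alternatingGroup (Fin n)) = n.factorial := by
    have hnt : Nontrivial (Fin n) := Fin.nontrivial_iff_two_le.2 (by omega)
    rw [Nat.card_eq_fintype_card, two_mul_card_alternatingGroup, Fintype.card_perm, Fintype.card_fin]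
  have hout : ¬ 5 ∣ Nat.card (Cfsg.Out (alternatingGroup (Fin n))) := by
    rcases hn with rfl | rfl
    · rw [Cfsg.Agent.H548.RowAlt.card_out_alt (by norm_num) (by norm_num) hsimp hna]; norm_num
    · rw [Cfsg.Agent.H548.RowAlt.card_out_six]; norm_num
  have hfull : ¬ 5 ^ 2 ∣ Nat.card (alternatingGroup (Fin n)) := by
    rcases hn with rfl | rfl
    · have : Nat.factorial 5 = 120 := rfl
      omega
    · have : Nat.factorial 6 = 720 := rfl
      omega
  have hsu : SUel 5 (⟨s, hsA⟩ : alternatingGroup (Fin n)) := by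
    rcases hn with rfl | rfl
    · have h1 : Nat.card (alternatingGroup (Fin 5)) = 5 * (([(2, 2), (3, 1)] : List (ℕ × ℕ)).map fun x => x.1 ^ x.2).prod := by
        have : Nat.factorial 5 = 120 := rfl
        have e : 5 * (([(2, 2), (3, 1)] : List (ℕ × ℕ)).map fun x => x.1 ^ x.2).prod = 60 := by decide
        omega
      exact SUel.of_arith hp5 hfull (arith_of_list _ (by decide +kernel) h1 hp5 (by decide +kernel) (by decide +kernel)) ho
    · have h1 : Nat.card (alternatingGroup (Fin 6)) = 5 * (([(2, 3), (3, 2)] : List (ℕ × ℕ)).map fun x => x.1 ^ x.2).prod := by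
        have : Nat.factorial 6 = 720 := rfl
        have e : 5 * (([(2, 3), (3, 2)] : List (ℕ × ℕ)).map fun x => x.1 ^ x.2).prod = 360 := by decide
        omega
      exact SUel.of_arith hp5 hfull (arith_of_list _ (by decide +kernel) h1 hp5 (by decide +kernel) (by decide +kernel)) ho
  have hr : SURow (alternatingGroup (Fin n)) 5 1 ⟨s, hsA⟩ :=
    { hp := hp5, odd := by norm_num, ha := le_rfl, ord := by rw [ho, pow_one], su := hsu, full := hfull,
      inn := inner_of_card hp5 hout }
  refine AS2.of_self hna hr le_rfl ?_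
  rw [Nat.sub_self, pow_zero, pow_one, pow_one]
  exact card_cent hn hs hs5 hsA

/-- **the row of the alternating groups** -/
theorem row {K : Type*} [Group K] [Finite K] [IsSimpleGroup K] (h : Cfsg.IsAlternating K) : AS2 K := by
  obtain ⟨n, hn, ⟨e⟩⟩ := h
  by_cases h7 : 7 ≤ n
  · exact row_ge h7 e
  · exact (as2_small (n := n) (by omega)).congr e.symm

end Cfsg.Agent.H495.AS
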